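import Mathlib

/-!
# helper7: curves through a point of a Noetherian domain, and quasi-finiteness at a point

* `exists_prime_between`: in a Noetherian domain, if there is a prime strictly between `⊥` and a
  prime `m`, then for any nonzero `h` there is a nonzero prime inside `m` not containing `h`
  (Krull's principal ideal theorem and prime avoidance).
* `exists_curve`: for a prime `t` of a Noetherian domain and `h ≠ 0` there is a prime `s ≤ t` not
  containing `h` with no prime strictly between `s` and `t`.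
* `quasiFiniteAt_of_curve`: a finite type algebra which is a Noetherian domain of dimension at most
  one at a prime `t₂` over `p`, not lying entirely over `p` generically, with `t₂` maximal among
  the primes over `p`, is quasi-finite at `t₂`.
-/

set_option linter.style.haveILetI false
set_option linter.unusedVariables false
set_option linter.unusedSectionVars false
set_option autoImplicit false
set_option synthInstance.maxHeartbeats 400000
set_option maxHeartbeats 1600000

universe u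

namespace Groth.Agent.Helper7.NoethQF

/-- primes strictly below a minimal prime of a principal ideal of a Noetherian domain vanish -/
theorem eq_bot_of_lt_minimalPrimes {R : Type u} [CommRing R] [IsDomain R] [IsNoetherianRing R]
    (z : R) (J : Ideal R) (hJ : J ∈ (Ideal.span {z}).minimalPrimes) (q : Ideal R) (hq : q.IsPrime)
    (hlt : q < J) : q = ⊥ := by
  haveI : J.IsPrime := hJ.1.1
  haveI : (Ideal.span {z}).IsPrincipal := ⟨⟨z, rfl⟩⟩
  have h1 := Ideal.height_le_one_of_isPrincipal_of_mem_minimalPrimes (Ideal.span {z}) J hJ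
  have h2 : J.height ≤ ((1 : ℕ) : ℕ∞) := by simpa using h1
  have h3 := Ideal.height_le_iff.mp h2 q hq hlt
  have h4 : q.height < 1 := by simpa using h3
  exact Ideal.height_eq_zero_iff_eq_bot.mp (Order.lt_one_iff.mp h4)

/-- **Avoiding a hypersurface by a curve, local step.** -/
theorem exists_prime_between {R : Type u} [CommRing R] [IsDomain R] [IsNoetherianRing R]
    (m : Ideal R) [m.IsPrime] (h : R) (h0 : h ≠ 0) (q : Ideal R) [q.IsPrime] (hq0 : q ≠ ⊥)
    (hqm : q < m) :
    ∃ q' : Ideal R, q'.IsPrime ∧ q' ≠ ⊥ ∧ q' ≤ m ∧ h ∉ q' := by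
  by_cases hm : h ∈ m
  swap
  · exact ⟨q, inferInstance, hq0, hqm.le, fun hh => hm (hqm.le hh)⟩
  have hfin := Ideal.finite_minimalPrimes_of_isNoetherianRing R (Ideal.span {h})
  have hav : ¬ ((m : Set R) ⊆ ⋃ i ∈ (↑hfin.toFinset : Set (Ideal R)), ((i : Ideal R) : Set R)) := by
    rw [Ideal.subset_union_prime (f := fun i : Ideal R => i) (⊥ : Ideal R) ⊥
      (fun i hi _ _ => (hfin.mem_toFinset.mp hi).1.1)]
    rintro ⟨J, hJ, hmJ⟩
    have hJ' := hfin.mem_toFinset.mp hJ
    exact hq0 (eq_bot_of_lt_minimalPrimes h J hJ' q inferInstance (lt_of_lt_of_le hqm hmJ))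
  obtain ⟨z, hzm, hzU⟩ := Set.not_subset.mp hav
  have hz : ∀ J ∈ (Ideal.span {h}).minimalPrimes, z ∉ J := by
    intro J hJ hzJ
    exact hzU (Set.mem_biUnion (Finset.mem_coe.mpr (hfin.mem_toFinset.mpr hJ)) hzJ)
  obtain ⟨q', hq'min, hq'm⟩ := Ideal.exists_minimalPrimes_le (I := Ideal.span {z}) (J := m)
    (Ideal.span_le.mpr (Set.singleton_subset_iff.mpr hzm))
  haveI hq'prime : q'.IsPrime := hq'min.1.1
  have hzq' : z ∈ q' := hq'min.1.2 (Ideal.mem_span_singleton_self z)
  obtain ⟨J₁, hJ₁, -⟩ := Ideal.exists_minimalPrimes_le (I := Ideal.span {h}) (J := m)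
    (Ideal.span_le.mpr (Set.singleton_subset_iff.mpr hm))
  refine ⟨q', hq'prime, ?_, hq'm, ?_⟩
  · intro hbot
    rw [hbot, Ideal.mem_bot] at hzq'
    exact hz J₁ hJ₁ (by rw [hzq']; exact J₁.zero_mem)
  · intro hhq'
    obtain ⟨J, hJ, hJq'⟩ := Ideal.exists_minimalPrimes_le (I := Ideal.span {h}) (J := q')
      (Ideal.span_le.mpr (Set.singleton_subset_iff.mpr hhq'))
    have hJne : J ≠ q' := fun e => hz J hJ (e ▸ hzq')
    have hJbot := eq_bot_of_lt_minimalPrimes z q' hq'min J hJ.1.1 (lt_of_le_of_ne hJq' hJne)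
    have hhJ : h ∈ J := hJ.1.2 (Ideal.mem_span_singleton_self h)
    rw [hJbot, Ideal.mem_bot] at hhJ
    exact h0 hhJ

/-- **A curve through a point avoiding a hypersurface.** -/
theorem exists_curve {D : Type u} [CommRing D] [IsDomain D] [IsNoetherianRing D]
    (t : Ideal D) [t.IsPrime] (h : D) (h0 : h ≠ 0) :
    ∃ s : Ideal D, s.IsPrime ∧ s ≤ t ∧ h ∉ s ∧
      ∀ q : Ideal D, q.IsPrime → s < q → q < t → False := by
  obtain ⟨s, ⟨hsprime, hst, hhs⟩, hmax⟩ :=
    set_has_maximal_iff_noetherian.mpr (inferInstance : IsNoetherian D D)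
      {q : Ideal D | q.IsPrime ∧ q ≤ t ∧ h ∉ q}
      ⟨⊥, Ideal.isPrime_bot, bot_le, fun hh => h0 (Ideal.mem_bot.mp hh)⟩
  haveI := hsprime
  refine ⟨s, hsprime, hst, hhs, ?_⟩
  intro q hq hsq hqt
  haveI := hq
  obtain ⟨π, hπ⟩ : ∃ π : D →+* D ⧸ s, π = Ideal.Quotient.mk s := ⟨_, rfl⟩
  have hπs : Function.Surjective π := by rw [hπ]; exact Ideal.Quotient.mk_surjective
  have hker : RingHom.ker π = s := by rw [hπ]; exact Ideal.mk_ker
  haveI : (t.map π).IsPrime :=
    Ideal.map_isPrime_of_surjective hπs (by rw [hker]; exact hst)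
  haveI : (q.map π).IsPrime :=
    Ideal.map_isPrime_of_surjective hπs (by rw [hker]; exact hsq.le)
  have hcm : ∀ I : Ideal D, s ≤ I → (I.map π).comap π = I := by
    intro I hI
    rw [Ideal.comap_map_of_surjective π hπs, ← RingHom.ker_eq_comap_bot, hker, sup_eq_left.mpr hI]
  have hq0 : q.map π ≠ ⊥ := by
    intro e
    have h1 := hcm q hsq.le
    rw [e, ← RingHom.ker_eq_comap_bot, hker] at h1
    exact hsq.ne h1
  have hqm : q.map π < t.map π := by
    refine lt_of_le_of_ne (Ideal.map_mono hqt.le) (fun e => hqt.ne ?_)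
    rw [← hcm q hsq.le, e, hcm t hst]
  have hh0 : π h ≠ 0 := by
    intro e
    apply hhs
    rw [← hker]
    exact (RingHom.mem_ker).mpr e
  obtain ⟨q', hq'prime, hq'0, hq'm, hhq'⟩ :=
    exists_prime_between (t.map π) (π h) hh0 (q.map π) hq0 hqm
  haveI := hq'prime
  refine hmax (q'.comap π) ⟨inferInstance, ?_, ?_⟩ ?_
  · calc q'.comap π ≤ (t.map π).comap π := Ideal.comap_mono hq'm
      _ = t := hcm t hst
  · exact fun hh => hhq' hh
  · refine lt_of_le_of_ne ?_ ?_
    · exact hker.ge.trans (Ideal.ker_le_comap π)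
    · intro e
      apply hq'0
      rw [← Ideal.map_comap_of_surjective π hπs q', ← e]
      exact (Ideal.map_eq_bot_iff_le_ker π).mpr hker.ge

/-- **Quasi-finiteness at a point of a curve.** -/
theorem quasiFiniteAt_of_curve {A A₂ : Type u} [CommRing A] [CommRing A₂] [Algebra A A₂]
    [Algebra.FiniteType A A₂] [IsNoetherianRing A₂] [IsDomain A₂]
    (p : Ideal A) [p.IsPrime] (t₂ : Ideal A₂) [t₂.IsPrime] [t₂.LiesOver p]
    (h1 : ∀ q : Ideal A₂, q.IsPrime → q ≤ t₂ → q = ⊥ ∨ q = t₂)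
    (h2 : ∃ a ∈ p, algebraMap A A₂ a ≠ 0)
    (h3 : ∀ q : Ideal A₂, q.IsPrime → q.LiesOver p → t₂ ≤ q → q = t₂) :
    Algebra.QuasiFiniteAt A t₂ := by
  obtain ⟨a₀, ha₀p, ha₀⟩ := h2
  have hfin := Ideal.finite_minimalPrimes_of_isNoetherianRing A₂ (p.map (algebraMap A A₂))
  obtain ⟨J, hJ⟩ : ∃ J : Ideal A₂, J = (hfin.toFinset.erase t₂).inf id := ⟨_, rfl⟩
  have hJt : ¬ J ≤ t₂ := by
    rw [hJ, Ideal.IsPrime.inf_le' ‹t₂.IsPrime›]
    rintro ⟨q, hq, hqt⟩
    obtain ⟨hne, hqmem⟩ := Finset.mem_erase.mp hq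
    have hqmin := hfin.mem_toFinset.mp hqmem
    have hqt' : q ≤ t₂ := hqt
    rcases h1 q hqmin.1.1 hqt' with e | e
    · apply ha₀
      have h4 : algebraMap A A₂ a₀ ∈ q := hqmin.1.2 (Ideal.mem_map_of_mem _ ha₀p)
      rw [e] at h4
      exact Ideal.mem_bot.mp h4
    · exact hne e
  obtain ⟨f, hfJ, hft⟩ := SetLike.not_le_iff_exists.mp hJt
  have key : ∀ x : PrimeSpectrum A₂, x.asIdeal.LiesOver p → f ∉ x.asIdeal → x.asIdeal = t₂ := by
    intro x hx hfx
    have hpx : p.map (algebraMap A A₂) ≤ x.asIdeal := Ideal.map_le_iff_le_comap.mpr hx.over.le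
    obtain ⟨q, hqmin, hqx⟩ := Ideal.exists_minimalPrimes_le hpx
    by_cases e : q = t₂
    · exact h3 x.asIdeal x.isPrime hx (e ▸ hqx)
    · exfalso
      apply hfx
      apply hqx
      have hJq : J ≤ q := by
        rw [hJ]
        exact Finset.inf_le (f := id) (Finset.mem_erase.mpr ⟨e, hfin.mem_toFinset.mpr hqmin⟩)
      exact hJq hfJ
  have hopen : IsOpen (X := PrimeSpectrum.comap (algebraMap A A₂) ⁻¹'
      {(⟨t₂, inferInstance⟩ : PrimeSpectrum A₂).comap (algebraMap A A₂)})
      {⟨(⟨t₂, inferInstance⟩ : PrimeSpectrum A₂), rfl⟩} := by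
    rw [isOpen_induced_iff]
    refine ⟨(PrimeSpectrum.basicOpen f : Set (PrimeSpectrum A₂)),
      (PrimeSpectrum.basicOpen f).isOpen, ?_⟩
    ext ⟨x, hx⟩
    constructor
    · intro hfx
      have hfx' : f ∉ x.asIdeal := hfx
      have hxover : x.asIdeal.LiesOver p := ⟨by
        have e1 : (x.asIdeal).comap (algebraMap A A₂) = t₂.comap (algebraMap A A₂) :=
          congrArg PrimeSpectrum.asIdeal hx
        have e2 : p = t₂.comap (algebraMap A A₂) := Ideal.LiesOver.over
        rw [Ideal.under_def, e1, ← e2]⟩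
      exact Subtype.ext (PrimeSpectrum.ext (key x hxover hfx'))
    · intro e
      have e' : x = ⟨t₂, inferInstance⟩ := congrArg Subtype.val e
      show f ∉ x.asIdeal
      rw [e']
      exact hft
  exact Algebra.QuasiFiniteAt.of_isOpen_singleton_fiber (R := A) (⟨t₂, inferInstance⟩ : PrimeSpectrum A₂) hopen

end Groth.Agent.Helper7.NoethQF
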