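import Mathlib
import Groth.Prelude
import Groth.Agent.Lib.Helper7.ImpDesc.ClosedPt
import Groth.Agent.Lib.Helper9.GenFree.Main2

/-!
# helper7: an impurity based at the generic point of a domain spreads out generically

Given an impurity over a domain `D` whose first point is the generic point, there is a nonzero
`g` in `D` such that every prime `s` of `D` below the second point and not containing `g` is the
first point of an impurity with the same second point: the witness of the associated point is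
made torsion free and killed by powers of generators of the associated prime; by generic freeness
its image in the fibre over `s` is nonzero, and an associated prime of the fibre module containing
its annihilator does the job.
-/

set_option linter.style.haveILetI false
set_option linter.unusedVariables false
set_option linter.unusedSectionVars false
set_option autoImplicit false
set_option backward.isDefEq.respectTransparency.types false
set_option synthInstance.maxHeartbeats 400000
set_option maxHeartbeats 1600000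

universe u

open TensorProduct

namespace Groth.Agent.Helper7.NoethQF

open Groth.Agent.Helper7.ImpDesc

attribute [local instance] Algebra.TensorProduct.rightAlgebra

section Gen

variable {A B : Type u} [CommRing A] [CommRing B] [Algebra A B] (N : Type u) [AddCommGroup N]
  [Module B N]
  (D BD ND : Type u) [CommRing D] [CommRing BD] [Algebra A D] [Algebra B BD]
  [Algebra D BD] [Algebra A BD] [IsScalarTower A B BD] [IsScalarTower A D BD]
  [AddCommGroup ND] [Module BD ND] [Module B ND] [IsScalarTower B BD ND] [Module D ND]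
  [IsScalarTower D BD ND] (f : N →ₗ[B] ND)

/-- **Generic spreading out of an impurity based at the generic point.** -/
theorem generic_impurity [IsDomain D] [Algebra.FiniteType D BD] [Module.Finite BD ND]
    [IsNoetherianRing BD] (p : Ideal A) [p.IsPrime] (t : Ideal D) [t.IsPrime]
    (P : Ideal BD) [P.IsPrime]
    (himp : FlatCA.IsImpurity A B N p D BD ND f ⊥ t P) :
    ∃ g : D, g ≠ 0 ∧ ∀ (s : Ideal D) [s.IsPrime], s ≤ t → g ∉ s →
      ∃ (ξ : Ideal BD) (_ : ξ.IsPrime), FlatCA.IsImpurity A B N p D BD ND f s t ξ := by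
  obtain ⟨hpush, hbc, hle, hover, hPover, hass, hno⟩ := himp
  haveI := hover
  haveI := hPover
  obtain ⟨x, hx⟩ := (mem_ass_iff (⊥ : Ideal D) ND P).mp hass
  -- vanishing in the generic fibre means torsion
  have hz : ∀ y : ND, im BD (⊥ : Ideal D) ND y = 0 ↔ ∃ r : D, r ≠ 0 ∧ r • y = 0 := by
    intro y
    rw [im_eq_zero_iff]
    constructor
    · rintro ⟨r, hr, hmem⟩
      refine ⟨r, fun h0 => hr (by rw [h0]; exact Ideal.zero_mem _), ?_⟩
      rw [Submodule.bot_smul] at hmem
      exact (Submodule.mem_bot D).mp hmem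
    · rintro ⟨r, hr, h0⟩
      exact ⟨r, fun h => hr (Ideal.mem_bot.mp h), by rw [h0]; exact Submodule.zero_mem _⟩
  -- generators of `P`
  obtain ⟨S, hS⟩ := (IsNoetherian.noetherian P : P.FG)
  have hgen : ∀ b ∈ S, ∃ (k : ℕ) (r : D), r ≠ 0 ∧ r • (b ^ k • x) = 0 := by
    intro b hb
    have hbP : b ∈ P := by
      rw [← hS]
      exact Submodule.subset_span hb
    obtain ⟨k, hk⟩ := (hx b).mp hbP
    obtain ⟨r, hr, h0⟩ := (hz _).mp hk
    exact ⟨k, r, hr, h0⟩
  choose! kf rf hrf hkf using hgen
  obtain ⟨c, hc⟩ : ∃ c : D, c = ∏ b ∈ S, rf b := ⟨_, rfl⟩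
  have hc0 : c ≠ 0 := by
    rw [hc]
    exact Finset.prod_ne_zero_iff.mpr hrf
  have hcy : ∀ b ∈ S, b ^ kf b • (c • x) = 0 := by
    intro b hb
    obtain ⟨d, hd⟩ : rf b ∣ c := by
      rw [hc]
      exact Finset.dvd_prod_of_mem rf hb
    rw [smul_comm, hd, mul_comm, mul_smul, hkf b hb, smul_zero]
  have hy_tf : ∀ r : D, r ≠ 0 → r • (c • x) ≠ 0 := by
    intro r hr h0
    have h1 : im BD (⊥ : Ideal D) ND ((1 : BD) ^ 1 • x) = 0 := by
      rw [pow_one, one_smul]
      exact (hz x).mpr ⟨r * c, mul_ne_zero hr hc0, by rw [mul_smul]; exact h0⟩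
    have h2 : (1 : BD) ∈ P := (hx 1).mpr ⟨1, h1⟩
    exact (Ideal.IsPrime.ne_top ‹P.IsPrime›) ((Ideal.eq_top_iff_one _).mpr h2)
  -- generic freeness
  obtain ⟨a, ha0, ι, bs, hbs⟩ := Groth.Agent.Helper9.GenFree.goodRing_of_finiteType' D BD ND
  obtain ⟨k₀, hk₀⟩ := hbs.2 (c • x)
  obtain ⟨cf, hcf⟩ := Finsupp.mem_span_range_iff_exists_finsupp.mp hk₀
  rw [← Finsupp.linearCombination_apply] at hcf
  have hcf0 : cf ≠ 0 := by
    intro h0
    rw [h0, map_zero] at hcf
    exact hy_tf (a ^ k₀) (pow_ne_zero _ ha0) hcf.symm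
  obtain ⟨l₀, hl₀⟩ : ∃ l₀, cf l₀ ≠ 0 := by
    by_contra hall
    push Not at hall
    exact hcf0 (Finsupp.ext hall)
  refine ⟨a * cf l₀, mul_ne_zero ha0 hl₀, ?_⟩
  intro s _ hst hgs
  have has : a ∉ s := fun h => hgs (s.mul_mem_right _ h)
  have hls : cf l₀ ∉ s := fun h => hgs (s.mul_mem_left _ h)
  -- a normal form for the elements of `s N`
  have hnf : ∀ w ∈ s • (⊤ : Submodule D ND), ∃ (K : ℕ) (e : ι →₀ D), (∀ l, e l ∈ s) ∧
      a ^ K • w = Finsupp.linearCombination D bs e := by
    intro w hw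
    refine Submodule.smul_induction_on hw ?_ ?_
    · intro r hr n _
      obtain ⟨K, hK⟩ := hbs.2 n
      obtain ⟨e, he⟩ := Finsupp.mem_span_range_iff_exists_finsupp.mp hK
      rw [← Finsupp.linearCombination_apply] at he
      refine ⟨K, r • e, fun l => ?_, ?_⟩
      · rw [Finsupp.smul_apply, smul_eq_mul]
        exact s.mul_mem_right _ hr
      · rw [map_smul, he, smul_comm]
    · rintro w₁ w₂ ⟨K₁, e₁, h₁, E₁⟩ ⟨K₂, e₂, h₂, E₂⟩
      refine ⟨K₁ + K₂, a ^ K₂ • e₁ + a ^ K₁ • e₂, fun l => ?_, ?_⟩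
      · rw [Finsupp.add_apply, Finsupp.smul_apply, Finsupp.smul_apply, smul_eq_mul, smul_eq_mul]
        exact s.add_mem (s.mul_mem_left _ (h₁ l)) (s.mul_mem_left _ (h₂ l))
      · rw [smul_add, map_add, map_smul, map_smul, ← E₁, ← E₂, smul_smul, smul_smul, ← pow_add,
          ← pow_add, add_comm K₂ K₁]
  -- the witness does not vanish in the fibre over `s`
  have hne : im BD s ND (c • x) ≠ 0 := by
    intro h0
    obtain ⟨σ, hσ, hmem⟩ := (im_eq_zero_iff s ND (c • x)).mp h0
    obtain ⟨K, e, he, hE⟩ := hnf _ hmem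
    have h1 : Finsupp.linearCombination D bs (a ^ k₀ • e - (a ^ K * σ) • cf) = 0 := by
      rw [map_sub, map_smul, map_smul, ← hE, hcf, sub_eq_zero]
      simp only [smul_smul]
      congr 1
      ring
    have h2 : a ^ k₀ • e - (a ^ K * σ) • cf = 0 :=
      hbs.1 _ ⟨0, by rw [pow_zero, one_smul]; exact h1⟩
    have h3 := DFunLike.congr_fun h2 l₀
    rw [Finsupp.sub_apply, Finsupp.smul_apply, Finsupp.smul_apply, Finsupp.zero_apply, smul_eq_mul,
      smul_eq_mul, sub_eq_zero] at h3
    have h4 : a ^ K * σ * cf l₀ ∈ s := by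
      rw [← h3]
      exact s.mul_mem_left _ (he l₀)
    rcases (Ideal.IsPrime.mem_or_mem ‹s.IsPrime› h4) with h5 | h5
    · rcases (Ideal.IsPrime.mem_or_mem ‹s.IsPrime› h5) with h6 | h6
      · exact has (Ideal.IsPrime.mem_of_pow_mem ‹s.IsPrime› _ h6)
      · exact hσ h6
    · exact hls h5
  -- an associated prime of the fibre module containing the annihilator of the witness
  haveI : IsNoetherianRing (s.Fiber BD) := Algebra.FiniteType.isNoetherianRing s.ResidueField _
  obtain ⟨Q, hQass, hQle⟩ := exists_le_isAssociatedPrime_of_isNoetherianRing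
    (R := s.Fiber BD) (im BD s ND (c • x)) hne
  haveI hQprime : Q.IsPrime := hQass.isPrime
  obtain ⟨ξ, hξ⟩ : ∃ ξ : Ideal BD, ξ = Q.comap (Algebra.TensorProduct.includeRight
      (R := D) (A := s.ResidueField) (B := BD)).toRingHom := ⟨_, rfl⟩
  haveI hξprime : ξ.IsPrime := by
    rw [hξ]
    infer_instance
  haveI hξover : ξ.LiesOver s := by
    rw [hξ]
    exact comap_fibre_liesOver s Q
  have hξmem : ∀ b : BD, b ∈ ξ ↔ ((1 : s.ResidueField) ⊗ₜ[D] b : s.Fiber BD) ∈ Q := fun b => by
    rw [hξ]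
    rfl
  have hPξ : P ≤ ξ := by
    rw [← hS, Submodule.span_le]
    intro b hb
    rw [SetLike.mem_coe, hξmem]
    apply hQprime.mem_of_pow_mem (kf b)
    apply hQle
    rw [Submodule.mem_colon_singleton, Submodule.mem_bot, one_tmul_pow_smul_im, hcy b hb, im_zero]
  have hfib : Q = FlatCA.fiberIdeal s ξ :=
    Groth.Agent.Helper8.UnivCpl.fiberIdeal_eq_of_forall s ξ Q (fun b => (hξmem b).symm)
  refine ⟨ξ, hξprime, hpush, hbc, hst, hover, hξover, ?_, ?_⟩
  · change FlatCA.fiberIdeal s ξ ∈ associatedPrimes (s.Fiber BD) ((s.Fiber BD) ⊗[BD] ND)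
    rw [← hfib]
    exact hQass
  · intro P' _ hP' hover'
    exact hno P' (hPξ.trans hP') hover'

end Gen

end Groth.Agent.Helper7.NoethQF
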