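import Mathlib
import Groth.Prelude
import Groth.Agent.Lib.Helper7.ImpDesc.ClosedPt
import Groth.Agent.Lib.Helper8.PureProj

/-!
# helper7: impurities do not live inside one fibre; passing to quotients of the base

* `not_isImpurity_of_projective`: there is no impurity whose base changed module is projective over
  the base change ring (a reformulation of the universal purity of projective modules).
* `exists_mem_notMem`: the first point of an impurity above `p` never lies over `p`: otherwise the
  base change to the fibre ring over `p` would be an impurity of a free module.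
* `quot_impurity`: an impurity in canonical form passes to the quotient of the base ring by the
  first point.
* transfer of the closedness of the second point and of the dimension one property to quotients.
-/

set_option linter.style.haveILetI false
set_option linter.unusedVariables false
set_option linter.unusedSectionVars false
set_option autoImplicit false
set_option backward.isDefEq.respectTransparency.types false
set_option synthInstance.maxHeartbeats 400000
set_option maxHeartbeats 1600000

universe u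

open TensorProduct

namespace Groth.Agent.Helper7.NoethQF

open Groth.Agent.Helper7.ImpDesc

attribute [local instance] Algebra.TensorProduct.rightAlgebra

section Proj

/-- there is no impurity whose base changed module is projective over the base change ring -/
theorem not_isImpurity_of_projective {A B : Type u} [CommRing A] [CommRing B] [Algebra A B]
    (N : Type u) [AddCommGroup N] [Module B N] (p : Ideal A) [p.IsPrime]
    (A' B' N' : Type u) [CommRing A'] [CommRing B'] [Algebra A A'] [Algebra B B']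
    [Algebra A' B'] [Algebra A B'] [IsScalarTower A B B'] [IsScalarTower A A' B']
    [AddCommGroup N'] [Module B' N'] [Module B N'] [IsScalarTower B B' N'] [Module A' N']
    [IsScalarTower A' B' N'] (f : N →ₗ[B] N') (t' t : Ideal A') [t'.IsPrime] [t.IsPrime]
    (P : Ideal B') [P.IsPrime] [Module.Projective A' N']
    (himp : FlatCA.IsImpurity A B N p A' B' N' f t' t P) : False := by
  obtain ⟨hpush, hbc, hle, hover, hPover, hass, hno⟩ := himp
  have h1 : FlatCA.IsUnivPure A' B' N' := Groth.Agent.Helper8.PureProj.main N'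
  refine h1 t A' B' N' LinearMap.id t' t P ⟨inferInstance, ?_, hle, ⟨?_⟩, hPover, hass, hno⟩
  · exact IsBaseChange.of_equiv (TensorProduct.lid B' N') (fun x => by simp)
  · ext a
    rfl

/-- a module obtained by base change through a field is free -/
theorem free_tensor_of_field {A : Type u} [CommRing A] (k F : Type u) [Field k] [CommRing F]
    [Algebra A k] [Algebra A F] [Algebra k F] [IsScalarTower A k F] (N : Type u) [AddCommGroup N]
    [Module A N] : Module.Free F (F ⊗[A] N) :=
  Module.Free.of_equiv (TensorProduct.AlgebraTensorModule.cancelBaseChange A k F F N)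

end Proj

section Quot

variable {A B : Type u} [CommRing A] [CommRing B] [Algebra A B] (N : Type u) [AddCommGroup N]
  [Module B N]

/-- **Transfer of an impurity in canonical form upwards, to the canonical form.** -/
theorem up_canon [Algebra.FiniteType A B] (p : Ideal A) [p.IsPrime]
    (G : Type u) [CommRing G] [Algebra A G] (s t : Ideal G) [s.IsPrime] [t.IsPrime]
    (P₀ : Ideal (B ⊗[A] G)) [P₀.IsPrime]
    (himp : FlatCA.IsImpurity A B N p G (B ⊗[A] G) ((B ⊗[A] G) ⊗[B] N)
      (TensorProduct.mk B (B ⊗[A] G) N 1) s t P₀)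
    (A₂ : Type u) [CommRing A₂] [Algebra A A₂] [Algebra G A₂] [IsScalarTower A G A₂]
    (s₂ t₂ : Ideal A₂) [s₂.IsPrime] [t₂.IsPrime] (hle : s₂ ≤ t₂)
    (hs : s₂.comap (algebraMap G A₂) = s) (ht : t₂.comap (algebraMap G A₂) = t) :
    ∃ (P₂ : Ideal (B ⊗[A] A₂)) (_ : P₂.IsPrime),
      FlatCA.IsImpurity A B N p A₂ (B ⊗[A] A₂) ((B ⊗[A] A₂) ⊗[B] N)
        (TensorProduct.mk B (B ⊗[A] A₂) N 1) s₂ t₂ P₂ := by
  have key : ∀ (s' t₁ : Ideal G) [s'.IsPrime] [t₁.IsPrime], s' = s → t₁ = t →
      FlatCA.IsImpurity A B N p G (B ⊗[A] G) ((B ⊗[A] G) ⊗[B] N)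
        (TensorProduct.mk B (B ⊗[A] G) N 1) s' t₁ P₀ := by
    intro s' t₁ _ _ h1 h2
    subst h1
    subst h2
    exact himp
  exact up_isImpurity N A₂ (B ⊗[A] A₂) ((B ⊗[A] A₂) ⊗[B] N)
    (TensorProduct.mk B (B ⊗[A] A₂) N 1) G p s₂ t₂
    (TensorProduct.isBaseChange B N (B ⊗[A] A₂)) hle P₀ (key _ _ hs ht)

/-- there is no impurity in canonical form over a base ring through which a field factors -/
theorem not_isImpurity_canon_of_field (p : Ideal A) [p.IsPrime] (k F : Type u) [Field k]
    [CommRing F] [Algebra A k] [Algebra A F] [Algebra k F] [IsScalarTower A k F]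
    (T' T : Ideal F) [T'.IsPrime] [T.IsPrime] (PF : Ideal (B ⊗[A] F)) [PF.IsPrime]
    (himp : FlatCA.IsImpurity A B N p F (B ⊗[A] F) ((B ⊗[A] F) ⊗[B] N)
      (TensorProduct.mk B (B ⊗[A] F) N 1) T' T PF) : False := by
  letI : Module A N := Module.compHom N (algebraMap A B)
  haveI : IsScalarTower A B N := ⟨fun a b n => by
    change (a • b) • n = algebraMap A B a • (b • n)
    rw [Algebra.smul_def, mul_smul]⟩
  haveI : Algebra.IsPushout A F B (B ⊗[A] F) := Algebra.IsPushout.symm inferInstance
  haveI : Module.Free F (F ⊗[A] N) := free_tensor_of_field k F N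
  haveI : Module.Free F ((B ⊗[A] F) ⊗[B] N) :=
    Module.Free.of_equiv (Algebra.IsPushout.cancelBaseChange A F B (B ⊗[A] F) N).symm
  exact not_isImpurity_of_projective N p F (B ⊗[A] F) ((B ⊗[A] F) ⊗[B] N)
    (TensorProduct.mk B (B ⊗[A] F) N 1) T' T PF himp

/-- **The first point of an impurity above `p` does not lie over `p`.** -/
theorem exists_mem_notMem [Algebra.FiniteType A B] (p : Ideal A) [p.IsPrime]
    (A' : Type u) [CommRing A'] [Algebra A A'] (t' t : Ideal A') [t'.IsPrime] [t.IsPrime]
    (P₀ : Ideal (B ⊗[A] A')) [P₀.IsPrime]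
    (himp : FlatCA.IsImpurity A B N p A' (B ⊗[A] A') ((B ⊗[A] A') ⊗[B] N)
      (TensorProduct.mk B (B ⊗[A] A') N 1) t' t P₀) :
    ∃ a ∈ p, algebraMap A A' a ∉ t' := by
  by_contra hcon
  push Not at hcon
  obtain ⟨hpush, hbc, hle, hover, hPover, hass, hno⟩ := id himp
  haveI := hover
  haveI ht'over : t'.LiesOver p := ⟨by
    ext a
    constructor
    · intro ha
      exact hcon a ha
    · intro ha
      have h1 : algebraMap A A' a ∈ t := hle ha
      rw [hover.over]
      exact h1⟩
  obtain ⟨hT'prime, hT'mem⟩ := Groth.Agent.Helper8.GSF.fiberIdeal_isPrime_and_mem_iff p t'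
  obtain ⟨hTprime, hTmem⟩ := Groth.Agent.Helper8.GSF.fiberIdeal_isPrime_and_mem_iff p t
  haveI := hT'prime
  haveI := hTprime
  have hc' : (FlatCA.fiberIdeal p t').comap (algebraMap A' (p.Fiber A')) = t' := by
    ext a
    exact hT'mem a
  have hc : (FlatCA.fiberIdeal p t).comap (algebraMap A' (p.Fiber A')) = t := by
    ext a
    exact hTmem a
  obtain ⟨PF, hPF, himpF⟩ := up_canon N p A' t' t P₀ himp (p.Fiber A')
    (FlatCA.fiberIdeal p t') (FlatCA.fiberIdeal p t) (Ideal.map_mono hle) hc' hc
  haveI := hPF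
  exact not_isImpurity_canon_of_field N p p.ResidueField (p.Fiber A')
    (FlatCA.fiberIdeal p t') (FlatCA.fiberIdeal p t) PF himpF

/-- **An impurity in canonical form passes to the quotient of the base by its first point.** -/
theorem quot_impurity [Algebra.FiniteType A B] (p : Ideal A) [p.IsPrime]
    (R : Type u) [CommRing R] [Algebra A R] (s t : Ideal R) [s.IsPrime] [t.IsPrime]
    [(t.map (Ideal.Quotient.mk s)).IsPrime]
    (P₀ : Ideal (B ⊗[A] R)) [P₀.IsPrime]
    (himp : FlatCA.IsImpurity A B N p R (B ⊗[A] R) ((B ⊗[A] R) ⊗[B] N)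
      (TensorProduct.mk B (B ⊗[A] R) N 1) s t P₀) :
    ∃ (P : Ideal (B ⊗[A] (R ⧸ s))) (_ : P.IsPrime),
      FlatCA.IsImpurity A B N p (R ⧸ s) (B ⊗[A] (R ⧸ s)) ((B ⊗[A] (R ⧸ s)) ⊗[B] N)
        (TensorProduct.mk B (B ⊗[A] (R ⧸ s)) N 1) ⊥ (t.map (Ideal.Quotient.mk s)) P := by
  have hle : s ≤ t := himp.2.2.1
  have hc1 : (⊥ : Ideal (R ⧸ s)).comap (algebraMap R (R ⧸ s)) = s := by
    rw [Ideal.Quotient.algebraMap_eq, ← RingHom.ker_eq_comap_bot, Ideal.mk_ker]
  have hc2 : (t.map (Ideal.Quotient.mk s)).comap (algebraMap R (R ⧸ s)) = t := by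
    rw [Ideal.Quotient.algebraMap_eq, Ideal.comap_map_of_surjective _ Ideal.Quotient.mk_surjective,
      ← RingHom.ker_eq_comap_bot, Ideal.mk_ker, sup_eq_left.mpr hle]
  exact up_canon N p R s t P₀ himp (R ⧸ s) ⊥ (t.map (Ideal.Quotient.mk s)) bot_le hc1 hc2

/-- packaging an impurity in canonical form -/
theorem hasImpurity_of_canon (p : Ideal A) [p.IsPrime] (A₂ : Type u) [CommRing A₂] [Algebra A A₂]
    (s₂ t₂ : Ideal A₂) [s₂.IsPrime] [t₂.IsPrime] (P₂ : Ideal (B ⊗[A] A₂)) [P₂.IsPrime]
    (himp : FlatCA.IsImpurity A B N p A₂ (B ⊗[A] A₂) ((B ⊗[A] A₂) ⊗[B] N)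
      (TensorProduct.mk B (B ⊗[A] A₂) N 1) s₂ t₂ P₂)
    (Q : ∀ (A' : Type u) [CommRing A'] [Algebra A A'], Ideal A' → Prop) (hQ : Q A₂ t₂) :
    FlatCA.HasImpurity A B N p Q :=
  ⟨A₂, B ⊗[A] A₂, (B ⊗[A] A₂) ⊗[B] N, inferInstance, inferInstance, inferInstance,
    inferInstance, inferInstance, inferInstance, inferInstance, inferInstance, inferInstance,
    inferInstance, inferInstance, inferInstance, inferInstance, inferInstance,
    TensorProduct.mk B (B ⊗[A] A₂) N 1, s₂, t₂, inferInstance, inferInstance, P₂, inferInstance,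
    himp, hQ⟩

end Quot

section Closed

variable {A : Type u} [CommRing A] (p : Ideal A) [p.IsPrime]

/-- a point whose prime of the fibre ring is maximal is maximal among the primes over `p` -/
theorem closed_of_isMaximal (R : Type u) [CommRing R] [Algebra A R] (t : Ideal R) [t.IsPrime]
    [t.LiesOver p] (hmax : (FlatCA.fiberIdeal p t).IsMaximal) (q : Ideal R) (hq : q.IsPrime)
    (hqp : q.LiesOver p) (htq : t ≤ q) : q = t := by
  haveI := hq
  haveI := hqp
  obtain ⟨hqprime, hqmem⟩ := Groth.Agent.Helper8.GSF.fiberIdeal_isPrime_and_mem_iff p q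
  obtain ⟨-, htmem⟩ := Groth.Agent.Helper8.GSF.fiberIdeal_isPrime_and_mem_iff p t
  have h1 : FlatCA.fiberIdeal p t ≤ FlatCA.fiberIdeal p q := Ideal.map_mono htq
  have h2 : FlatCA.fiberIdeal p t = FlatCA.fiberIdeal p q := hmax.eq_of_le hqprime.ne_top h1
  refine le_antisymm ?_ htq
  intro a ha
  rw [← htmem a, h2]
  exact (hqmem a).mpr ha

/-- closedness in the fibre passes to quotients of the base -/
theorem closed_quot (R : Type u) [CommRing R] [Algebra A R] (s t : Ideal R) [t.IsPrime]
    (hst : s ≤ t)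
    (hcl : ∀ q : Ideal R, q.IsPrime → q.LiesOver p → t ≤ q → q = t)
    (q : Ideal (R ⧸ s)) (hq : q.IsPrime) (hqp : q.LiesOver p)
    (htq : t.map (Ideal.Quotient.mk s) ≤ q) : q = t.map (Ideal.Quotient.mk s) := by
  haveI := hq
  haveI := hqp
  have h1 : (q.comap (algebraMap R (R ⧸ s))).LiesOver p := liesOver_base (R ⧸ s) R p q
  have h2 : t ≤ q.comap (algebraMap R (R ⧸ s)) := by
    intro a ha
    rw [Ideal.mem_comap, Ideal.Quotient.algebraMap_eq]
    exact htq (Ideal.mem_map_of_mem _ ha)
  have h3 := hcl _ inferInstance h1 h2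
  rw [Ideal.Quotient.algebraMap_eq] at h3
  rw [← h3, Ideal.map_comap_of_surjective _ Ideal.Quotient.mk_surjective]

/-- the dimension one property passes to the quotient by the smaller prime -/
theorem dim_quot (R : Type u) [CommRing R] (s t : Ideal R) [s.IsPrime] [t.IsPrime] (hst : s ≤ t)
    (hno : ∀ q : Ideal R, q.IsPrime → s < q → q < t → False)
    (q : Ideal (R ⧸ s)) (hq : q.IsPrime) (hqt : q ≤ t.map (Ideal.Quotient.mk s)) :
    q = ⊥ ∨ q = t.map (Ideal.Quotient.mk s) := by
  haveI := hq
  obtain ⟨π, hπ⟩ : ∃ π : R →+* R ⧸ s, π = Ideal.Quotient.mk s := ⟨_, rfl⟩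
  have hπs : Function.Surjective π := by rw [hπ]; exact Ideal.Quotient.mk_surjective
  have hker : RingHom.ker π = s := by rw [hπ]; exact Ideal.mk_ker
  rw [← hπ] at hqt ⊢
  have hcm : (t.map π).comap π = t := by
    rw [Ideal.comap_map_of_surjective π hπs, ← RingHom.ker_eq_comap_bot, hker, sup_eq_left.mpr hst]
  have h1 : s ≤ q.comap π := hker.ge.trans (Ideal.ker_le_comap π)
  have h2 : q.comap π ≤ t := by
    calc q.comap π ≤ (t.map π).comap π := Ideal.comap_mono hqt
      _ = t := hcm
  have hq' : q = (q.comap π).map π := (Ideal.map_comap_of_surjective π hπs q).symm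
  by_cases e1 : q.comap π = s
  · left
    rw [hq', e1]
    exact (Ideal.map_eq_bot_iff_le_ker π).mpr hker.ge
  · by_cases e2 : q.comap π = t
    · right
      rw [hq', e2]
    · exact (hno (q.comap π) inferInstance (lt_of_le_of_ne h1 (Ne.symm e1))
        (lt_of_le_of_ne h2 e2)).elim

end Closed

end Groth.Agent.Helper7.NoethQF
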