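import Mathlib
import Groth.Prelude
import Groth.Agent.Lib.Helper7.NoethQF.NoFib
import Groth.Agent.Lib.Helper7.NoethQF.Gen
import Groth.Agent.Lib.Helper7.NoethQF.Curve

/-!
# helper7: over a Noetherian base, impurities can be based at quasi-finite points

Starting from an impurity over a finitely presented base whose second point `t` is closed in its
fibre, one passes to the quotient by the first point (a Noetherian domain), spreads the impurity
out generically (generic freeness), chooses a curve through `t` avoiding the bad hypersurface and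
not contained in the fibre over `p` (the first point of an impurity never lies over `p`), and
passes to the quotient by the curve: the new base is quasi-finite over `A` at the image of `t`.
-/

set_option linter.style.haveILetI false
set_option linter.unusedVariables false
set_option linter.unusedSectionVars false
set_option autoImplicit false
set_option backward.isDefEq.respectTransparency.types false
set_option synthInstance.maxHeartbeats 400000
set_option maxHeartbeats 1600000

universe u

open TensorProduct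

namespace Groth.Agent.Helper7.NoethQF

open Groth.Agent.Helper7.ImpDesc

attribute [local instance] Algebra.TensorProduct.rightAlgebra

section Main

variable {A B : Type u} [CommRing A] [CommRing B] [Algebra A B] (N : Type u) [AddCommGroup N]
  [Module B N]

/-- generic spreading out, in canonical form -/
theorem generic_impurity_canon [Algebra.FiniteType A B] [Module.Finite B N] (p : Ideal A)
    [p.IsPrime] (D : Type u) [CommRing D] [IsDomain D] [IsNoetherianRing D] [Algebra A D]
    (t : Ideal D) [t.IsPrime] (P : Ideal (B ⊗[A] D)) [P.IsPrime]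
    (himp : FlatCA.IsImpurity A B N p D (B ⊗[A] D) ((B ⊗[A] D) ⊗[B] N)
      (TensorProduct.mk B (B ⊗[A] D) N 1) ⊥ t P) :
    ∃ g : D, g ≠ 0 ∧ ∀ (s : Ideal D) [s.IsPrime], s ≤ t → g ∉ s →
      ∃ (ξ : Ideal (B ⊗[A] D)) (_ : ξ.IsPrime),
        FlatCA.IsImpurity A B N p D (B ⊗[A] D) ((B ⊗[A] D) ⊗[B] N)
          (TensorProduct.mk B (B ⊗[A] D) N 1) s t ξ := by
  haveI : Algebra.FiniteType D (B ⊗[A] D) := by
    haveI : Algebra.IsPushout A D B (B ⊗[A] D) := Algebra.IsPushout.symm inferInstance
    exact Algebra.FiniteType.equiv inferInstance (Algebra.IsPushout.equiv A D B (B ⊗[A] D))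
  haveI : IsNoetherianRing (B ⊗[A] D) := Algebra.FiniteType.isNoetherianRing D _
  exact generic_impurity N D (B ⊗[A] D) ((B ⊗[A] D) ⊗[B] N)
    (TensorProduct.mk B (B ⊗[A] D) N 1) p t P himp

/-- the step over a Noetherian domain -/
theorem stepD [Algebra.FiniteType A B] [Module.Finite B N] (p : Ideal A) [p.IsPrime]
    (D : Type u) [CommRing D] [IsDomain D] [IsNoetherianRing D] [Algebra A D]
    [Algebra.FiniteType A D] (t : Ideal D) [t.IsPrime] (P : Ideal (B ⊗[A] D)) [P.IsPrime]
    (himp : FlatCA.IsImpurity A B N p D (B ⊗[A] D) ((B ⊗[A] D) ⊗[B] N)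
      (TensorProduct.mk B (B ⊗[A] D) N 1) ⊥ t P)
    (hcl : ∀ q : Ideal D, q.IsPrime → q.LiesOver p → t ≤ q → q = t)
    (ha : ∃ a ∈ p, algebraMap A D a ≠ 0) :
    FlatCA.HasImpurity A B N p (fun A' _ _ t =>
      ∃ _ : t.IsPrime, Algebra.FiniteType A A' ∧ Algebra.QuasiFiniteAt A t) := by
  obtain ⟨a₀, ha₀p, ha₀⟩ := ha
  haveI htover : t.LiesOver p := himp.2.2.2.1
  obtain ⟨g, hg0, hg⟩ := generic_impurity_canon N p D t P himp
  obtain ⟨s, hsprime, hst, hhs, hno⟩ :=
    exists_curve t (g * algebraMap A D a₀) (mul_ne_zero hg0 ha₀)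
  haveI := hsprime
  have hgs : g ∉ s := fun h => hhs (s.mul_mem_right _ h)
  have has : algebraMap A D a₀ ∉ s := fun h => hhs (s.mul_mem_left _ h)
  obtain ⟨ξ, hξprime, himps⟩ := hg s hst hgs
  haveI := hξprime
  haveI ht₂prime : (t.map (Ideal.Quotient.mk s)).IsPrime :=
    Ideal.map_isPrime_of_surjective Ideal.Quotient.mk_surjective (by rw [Ideal.mk_ker]; exact hst)
  obtain ⟨P₂, hP₂prime, himp₂⟩ := quot_impurity N p D s t ξ himps
  haveI := hP₂prime
  haveI : Algebra.FiniteType A (D ⧸ s) :=
    Algebra.FiniteType.of_surjective (Ideal.Quotient.mkₐ A s) (Ideal.Quotient.mkₐ_surjective A s)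
  haveI ht₂over : (t.map (Ideal.Quotient.mk s)).LiesOver p := himp₂.2.2.2.1
  have hqf : Algebra.QuasiFiniteAt A (t.map (Ideal.Quotient.mk s)) := by
    refine quasiFiniteAt_of_curve p (t.map (Ideal.Quotient.mk s)) ?_ ⟨a₀, ha₀p, ?_⟩ ?_
    · exact fun q hq hqt => dim_quot D s t hst hno q hq hqt
    · rw [IsScalarTower.algebraMap_apply A D (D ⧸ s), Ideal.Quotient.algebraMap_eq]
      exact fun h0 => has (Ideal.Quotient.eq_zero_iff_mem.mp h0)
    · exact fun q hq hqp htq => closed_quot p D s t hst hcl q hq hqp htq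
  refine hasImpurity_of_canon N p (D ⧸ s) ⊥ (t.map (Ideal.Quotient.mk s)) P₂ himp₂ _ ?_
  exact ⟨ht₂prime, inferInstance, hqf⟩

/-- **Over a Noetherian base, impurities can be based at quasi-finite points.** -/
theorem main_S1247 {A B : Type u} [CommRing A] [IsNoetherianRing A] [CommRing B] [Algebra A B]
    [Algebra.FiniteType A B] (N : Type u) [AddCommGroup N] [Module B N] [Module.Finite B N]
    (p : Ideal A) [p.IsPrime] (h : FlatCA.HasImpurity A B N p (fun _ _ _ _ => True)) :
    FlatCA.HasImpurity A B N p (fun A' _ _ t =>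
      ∃ _ : t.IsPrime, Algebra.FiniteType A A' ∧ Algebra.QuasiFiniteAt A t) := by
  obtain ⟨A', B', N', _, _, _, _, _, _, _, _, _, _, _, _, _, _, f, t', t, _, _, P, _, himp,
    hfp, hmax⟩ := S1245_main N p h
  haveI := hfp
  haveI : IsNoetherianRing A' := Algebra.FiniteType.isNoetherianRing A A'
  haveI htover : t.LiesOver p := himp.2.2.2.1
  have hle : t' ≤ t := himp.2.2.1
  obtain ⟨l, hl⟩ := desc_canon N A' B' N' f p t' t P himp
  obtain ⟨P₀, hP₀, himp₀⟩ := hl A' (fun a _ => ⟨a, rfl⟩) t' t (by ext x; exact Iff.rfl)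
    (by ext x; exact Iff.rfl)
  haveI := hP₀
  obtain ⟨a₀, ha₀p, ha₀t'⟩ := exists_mem_notMem N p A' t' t P₀ himp₀
  haveI htDprime : (t.map (Ideal.Quotient.mk t')).IsPrime :=
    Ideal.map_isPrime_of_surjective Ideal.Quotient.mk_surjective (by rw [Ideal.mk_ker]; exact hle)
  obtain ⟨PD, hPD, himpD⟩ := quot_impurity N p A' t' t P₀ himp₀
  haveI := hPD
  haveI : Algebra.FiniteType A (A' ⧸ t') :=
    Algebra.FiniteType.of_surjective (Ideal.Quotient.mkₐ A t') (Ideal.Quotient.mkₐ_surjective A t')
  refine stepD N p (A' ⧸ t') (t.map (Ideal.Quotient.mk t')) PD himpD ?_ ⟨a₀, ha₀p, ?_⟩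
  · exact fun q hq hqp htq => closed_quot p A' t' t hle
      (fun q' hq' hq'p htq' => closed_of_isMaximal p A' t hmax q' hq' hq'p htq') q hq hqp htq
  · rw [IsScalarTower.algebraMap_apply A A' (A' ⧸ t'), Ideal.Quotient.algebraMap_eq]
    exact fun h0 => ha₀t' (Ideal.Quotient.eq_zero_iff_mem.mp h0)

end Main

end Groth.Agent.Helper7.NoethQF
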